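import Cfsg.Agent.SmallGroups.Involution
import Cfsg.Agent.G2Two.CharTools

/-!
# The principal series at an involution, with the determinant condition
-/

set_option autoImplicit false
set_option linter.style.haveILetI false
set_option linter.unusedSectionVars false

noncomputable section

open scoped ComplexConjugate BigOperators
open Finset Cfsg.Agent.CharInd Cfsg.Agent.SmallGroups Cfsg.Agent.SmallGroups.Exceptional

namespace Cfsg.Agent.G2Two

universe u

variable {G : Type u} [Group G] [Fintype G] (P : Subgroup G) {p e : ℕ} (hp : p.Prime) (hp2 : p ≠ 2)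
  (hP : Nat.card ↥P = p) (hC : Nat.card ↥(Subgroup.centralizer (P : Set G)) = p)
  (hN : Nat.card ↥(Subgroup.normalizer (P : Set G)) = p * e)

include hp hp2 hP hC hN

/-- The case of a single exceptional character (`e = p - 1`). -/
theorem exists_involution_data_det [IsSimpleGroup G] (hG : ¬ IsMulCommutative G)
    (he : e = p - 1) :
    ∃ L : List (ℕ × ℤ),
      (∀ x ∈ L, 1 < x.1 ∧ x.1 ∣ Nat.card G ∧ (p : ℤ) ∣ (x.1 : ℤ) - x.2 ∧ x.2 ≠ 0) ∧
      (L.map fun x => x.2 ^ 2).sum = (e : ℤ) ∧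
      1 + (L.map fun x => x.2 * (x.1 : ℤ)).sum = 0 ∧
      1 + (L.map fun x => x.1 ^ 2).sum ≤ Nat.card G ∧
      ∀ g : G, orderOf g = 2 → ∃ V : List (ℕ × ℤ × ℤ),
        V.map (fun x => (x.1, x.2.1)) = L ∧
        (∀ x ∈ V, (4 : ℤ) ∣ (x.1 : ℤ) - x.2.2 ∧ -(x.1 : ℤ) < x.2.2 ∧ x.2.2 < x.1) ∧
        1 + (V.map fun x => x.2.1 * x.2.2).sum = 0 ∧
        1 + (V.map fun x => x.2.2 ^ 2).sum ≤
          (Nat.card ↥(Subgroup.centralizer ({g} : Set G)) : ℤ) ∧
        (let S : ℚ := 1 + (V.map fun x => (x.2.1 : ℚ) * ((x.2.2 : ℚ) ^ 2 / x.1)).sum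
         ((Nat.card G : ℚ) * S = 0 ∧ g ∉ Subgroup.normalizer (P : Set G)) ∨ (Nat.card G : ℚ) * S =
          p * (Nat.card ↥(Subgroup.centralizer ({g} : Set G)) : ℚ) ^ 2) := by
  classical
  haveI : Finite (↥P →* ℂˣ) := Char.monoidHom_complex_finite
  letI : Fintype (↥P →* ℂˣ) := Fintype.ofFinite _
  haveI : Finite (Cfsg.IrrCharacter G) := finite_irrCharacter
  letI : Fintype (Cfsg.IrrCharacter G) := Fintype.ofFinite _
  choose dg hdg0 hdg hdgdvd using fun χ : Cfsg.IrrCharacter G => Char.irr_degree_dvd_card χ.2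
  obtain ⟨r, hr1, -, hrsum⟩ := exists_reps P hp hP hC hN (t := 1)
    (by have := hp.two_le; omega) (by omega)
  obtain ⟨a, ha, hexp, hnorm, hdeg0, hT⟩ := exists_coeff P hp hP hC hN (hr1 0) dg hdg
  let T : Cfsg.IrrCharacter G := Char.trivialIrr G
  let S : Finset (Cfsg.IrrCharacter G) := Finset.univ.filter fun χ => χ ≠ T ∧ a χ ≠ 0
  have hTS : T ∉ S := by simp [S]
  have hfull : ∀ {R : Type} [AddCommMonoid R] (F : Cfsg.IrrCharacter G → R),
      (∀ χ, a χ = 0 → F χ = 0) → ∑ χ, F χ = F T + (S.toList.map F).sum := by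
    intro R _ F hF
    rw [Finset.sum_map_toList, ← Finset.sum_insert hTS]
    refine (Finset.sum_subset (Finset.subset_univ _) fun χ _ hχ => hF χ ?_).symm
    simp only [Finset.mem_insert, S, Finset.mem_filter, Finset.mem_univ, true_and, not_or] at hχ
    by_contra h
    exact hχ.2 ⟨hχ.1, h⟩
  have hle : ∀ F : Cfsg.IrrCharacter G → ℕ, F T + (S.toList.map F).sum ≤ ∑ χ, F χ := by
    intro F
    rw [Finset.sum_map_toList, ← Finset.sum_insert hTS]
    exact Finset.sum_le_sum_of_subset_of_nonneg (Finset.subset_univ _) fun χ _ _ => Nat.zero_le _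
  have hdgT : dg T = 1 := by
    have h := (hdg T).symm.trans (show ((T : G → ℂ)) 1 = 1 from rfl)
    exact_mod_cast h
  refine ⟨S.toList.map fun χ => (dg χ, a χ), ?_, ?_, ?_, ?_, ?_⟩
  · intro x hx
    simp only [List.mem_map, Finset.mem_toList, S, Finset.mem_filter] at hx
    obtain ⟨χ, ⟨-, hχT, hχ0⟩, rfl⟩ := hx
    refine ⟨one_lt_degree hp hG hχT (hdg _), hdgdvd χ, ?_, hχ0⟩
    obtain ⟨n, hn⟩ := sum_classInner_alpha P hp hP hC hN χ (hdg χ)
    rw [hrsum (fun l => Cfsg.classInner (alpha P l) (χ : G → ℂ))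
      (by simp [alpha, dfun, indFun_zero, Char.classInner_zero_left])
      (fun l m h => alpha_inner_eq_of_rel P h (Char.irr_isClassFunction χ.2))] at hn
    simp only [Fin.sum_univ_one, ha] at hn
    have h2 : (e : ℤ) * a χ = (p : ℤ) * n - dg χ := by exact_mod_cast hn
    have hpe : (e : ℤ) = (p : ℤ) - 1 := by
      rw [he, Nat.cast_sub hp.one_le]; simp
    exact ⟨(n : ℤ) - a χ, by rw [hpe] at h2; linear_combination h2⟩
  · have h := hfull (fun χ => a χ * a χ) fun χ h => by simp [h]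
    rw [hnorm, hT] at h
    simp only [List.map_map, Function.comp_def]
    simp only [pow_two]
    linarith
  · have h := hfull (fun χ => a χ * (dg χ : ℤ)) fun χ h => by simp [h]
    rw [hdeg0, hT, hdgT] at h
    simp only [List.map_map, Function.comp_def]
    push_cast at h
    linarith
  · have htot : ∑ χ : Cfsg.IrrCharacter G, dg χ ^ 2 = Nat.card G := by
      have h := Char.sum_irr_degree_sq (G := G)
      simp only [hdg] at h
      exact_mod_cast h
    have h := hle (fun χ => dg χ ^ 2)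
    rw [htot, hdgT] at h
    simpa [List.map_map, Function.comp_def] using h
  intro g hg
  choose w hw hwi hwlt using fun χ : Cfsg.IrrCharacter G =>
    exists_involution_value_lt χ.2 (hdg χ) hg
  have hwT : w T = 1 := by
    have h := (hw T).symm.trans (show ((T : G → ℂ)) g = 1 from rfl)
    exact_mod_cast h
  obtain ⟨hlin, hquad⟩ := coeff_involution P hp hp2 hP hC (hr1 0) hexp hg
  refine ⟨S.toList.map fun χ => (dg χ, a χ, w χ), by simp [List.map_map, Function.comp_def],
    ?_, ?_, ?_, ?_⟩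
  · intro x hx
    simp only [List.mem_map, Finset.mem_toList, S, Finset.mem_filter] at hx
    obtain ⟨χ, ⟨-, hχT, -⟩, rfl⟩ := hx
    obtain ⟨v, hv, h4, h1, h2⟩ := involution_value hG χ.2 (hdg χ) (one_lt_degree hp hG hχT (hdg _)) hg
    have hwv : w χ = v := by exact_mod_cast (hw χ).symm.trans hv
    rw [hwv]
    exact ⟨h4, h1, h2⟩
  · have h := hfull (fun χ => a χ * w χ) fun χ h => by simp [h]
    simp only [hw] at hlin
    have h0 : ∑ χ, a χ * w χ = 0 := by exact_mod_cast hlin
    rw [h0, hT, hwT] at h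
    simp only [List.map_map, Function.comp_def]
    linarith
  · have h := hle (fun χ => (w χ).natAbs ^ 2)
    have hs := sum_sq_involution g w hw
    have hs' : ∑ χ, (w χ).natAbs ^ 2 = Nat.card ↥(Subgroup.centralizer ({g} : Set G)) := by
      have : ((∑ χ, (w χ).natAbs ^ 2 : ℕ) : ℝ) =
          (Nat.card ↥(Subgroup.centralizer ({g} : Set G)) : ℝ) := by
        rw [← hs]; push_cast [Nat.cast_natAbs, sq_abs]; rfl
      exact_mod_cast this
    rw [hs', hwT] at h
    have h' : ((1 + (S.toList.map fun χ => (w χ).natAbs ^ 2).sum : ℕ) : ℤ) ≤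
        (Nat.card ↥(Subgroup.centralizer ({g} : Set G)) : ℤ) := Int.ofNat_le.mpr (by simpa using h)
    push_cast [Nat.cast_list_sum, List.map_map, Function.comp_def, Nat.cast_natAbs, sq_abs] at h'
    simpa [List.map_map, Function.comp_def] using h'
  · have h := hfull (fun χ => (a χ : ℚ) * ((w χ : ℚ) ^ 2 / dg χ)) fun χ h => by simp [h]
    have e1 : (((1 + ((S.toList.map fun χ => (dg χ, a χ, w χ)).map
          fun x => (x.2.1 : ℚ) * ((x.2.2 : ℚ) ^ 2 / x.1)).sum : ℚ)) : ℂ) =
        ∑ χ : Cfsg.IrrCharacter G, (a χ : ℂ) * ((χ : G → ℂ) g ^ 2 / (χ : G → ℂ) 1) := by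
      simp only [hw, hdg, List.map_map, Function.comp_def]
      rw [show (1 : ℚ) = (a T : ℚ) * ((w T : ℚ) ^ 2 / dg T) by simp [hT, hwT, hdgT, T]]
      rw [← h]
      push_cast
      rfl
    refine hquad.imp (fun hq => ⟨?_, hq.2⟩) fun hq => ?_
    · have hq := hq.1
      rw [← e1] at hq
      apply Rat.cast_injective (α := ℂ)
      push_cast at hq ⊢
      exact hq
    · rw [← e1] at hq
      apply Rat.cast_injective (α := ℂ)
      push_cast at hq ⊢
      exact hq
end Cfsg.Agent.G2Two
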