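import Mathlib

/-!
# Tables for the doubly transitive group of degree 28 and order 6048

The extraspecial group of order 27 and exponent 3 as the numbers `i + 3 j + 9 l`, two groups of
order 8 acting on it, and the search for the swapping involution.
-/

set_option autoImplicit false

namespace Cfsg.Agent.G2Two

/-- An entry of a packed table. -/
def get5 (T i : ℕ) : ℕ := Nat.land (Nat.shiftRight T (Nat.mul 5 i)) 31

/-- The rows of the multiplication table. -/
def mulRows : List ℕ := [36485634846548906633991799739614356408352, 33807158694437073127827867162667987894337, 35084585782367332184613742699365486724098, 3171892054564858707048785979722544921283, 493415902453025200884853402776176407268, 1770842990383284257670728939473675237029, 19254326491166307663551877439333563656710, 16575850339054474157387944862387195142695, 17853277426984733214173820399084693972456, 11194971188942171297264238763634624703817, 8516495036830337791100306186688256189802, 9793922124760596847886181723385755019563, 15781333632197985227728495895012856814732, 13102857480086151721564563318066488300717, 14380284568016410778350438854763987130478, 31863768068800446086023396728094942602031, 29185291916688612579859464151148574088016,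 30462719004618871636645339687846072917777, 23840303017744999862707685326342777918066, 21161826865633166356543752749396409404051, 22439253953563425413329628286093908233812, 27278177423570348360732369740350087763381, 24599701271458514854568437163403719249366, 25877128359388773911354312700101218079127, 7757482699794988054270807010388370605304, 5079006547683154548106874433442002091289, 6356433635613413604892749970139500921050]

/-- The product. -/
def mulN (x y : ℕ) : ℕ :=
  get5 (mulRows.getD x 0) y

/-- The inverse. -/
def invN (x : ℕ) : ℕ := mulN x x

/-- A group of order eight of automorphisms with orbit data. -/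
structure KTab where
  acts : List ℕ
  mulT : List ℕ
  reps : List ℕ
  orbT : ℕ
  idxT : ℕ

namespace KTab

variable (K : KTab)

/-- The image of a point under an element. -/
def act (x p : ℕ) : ℕ := get5 (K.acts.getD x 0) p

/-- The product of two elements. -/
def kmul (x y : ℕ) : ℕ := get5 (K.mulT.getD x 0) y

/-- The representative of an orbit. -/
def rep (r : ℕ) : ℕ := K.reps.getD r 0

/-- The orbit of a point. -/
def orb (p : ℕ) : ℕ := get5 K.orbT p

/-- The element carrying the representative to a point. -/
def idx (p : ℕ) : ℕ := get5 K.idxT p

end KTab

/-- The cyclic group. -/
def tabZ : KTab where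
  acts := [1212501494925312236363414443023805295200288, 1195191366365447023911953061528993766217824, 1189901115276032646022445630377600509330848, 1205336542815281295428573004172876334587680, 1206968007168372490508343340121786488652864, 1197865812193767956944065026900197929159872, 1191137420543121258633820346386926540666400, 1209251281484036066981841900475638138070752]
  mulT := [247132686368, 7722896449, 34601078882, 69800760451, 105260488868, 140728343749, 176196452582, 211664569351]
  reps := [1, 4, 10]
  orbT := 133393348967588496151005349070764856311811
  idxT := 8301322241787347601565643061197430362112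

/-- The quaternion group. -/
def tabQ : KTab where
  acts := [1212501494925312236363414443023805295200288, 1186122694016035028559308347556487170693216, 1206968007168372490508343340121786488652864, 1183571741890523729885498928397555809160384, 1189901115276032646022445630377600509330848, 1192402685541781435197178761131023174919904, 1191137420543121258633820346386926540666400, 1196523247055920483128112027267821907533600]
  mulT := [247132686368, 145161718849, 176334864482, 211668763651, 103115036900, 1144200325, 36608118950, 71941887175]
  reps := [1, 4, 5]
  orbT := 133392019699027890855502777964959649234947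
  idxT := 1665734554077742191094810735598609926144

/-- A power in the table. -/
def KTab.kpow (K : KTab) (x : ℕ) : ℕ → ℕ
  | 0 => 0
  | n + 1 => K.kmul (K.kpow x n) x

/-- The endomorphism with prescribed images of the generators `1` and (for the quaternions) `4`. -/
def KTab.tau (K : KTab) (cyc : Bool) (g h x : ℕ) : ℕ :=
  if cyc then K.kpow g x else K.kmul (K.kpow g (x % 4)) (if x < 4 then 0 else h)

/-- The packed values of `tau`. -/
def KTab.tauT (K : KTab) (cyc : Bool) (g h : ℕ) : ℕ :=
  (List.range 8).foldr (fun i acc => K.tau cyc g h i + 32 * acc) 0

/-- An involutory automorphism. -/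
def KTab.valid (K : KTab) (t : ℕ) : Bool :=
  (List.range 8).all fun x => get5 t (get5 t x) == x &&
    (List.range 8).all fun y => get5 t (K.kmul x y) == K.kmul (get5 t x) (get5 t y)

/-- The candidate involution. -/
def sig (K : KTab) (T t cb : ℕ) (p : ℕ) : ℕ :=
  bif Nat.beq p 0 then 27 else bif Nat.beq p 27 then 0 else
  bif Nat.beq p 9 then cb else bif Nat.beq p 18 then Nat.sub 27 cb else
    K.act (get5 t (K.idx p)) (get5 T (K.orb p))

/-- The involution is consistent on the orbit `n`. -/
def pre (K : KTab) (T t cb n : ℕ) : Bool :=
  (List.range 8).all fun x =>
    let p := K.act x (K.rep n)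
    let q := sig K T t cb p
    Nat.beq (K.orb q) 3 || Nat.blt n (K.orb q) || Nat.beq (sig K T t cb q) p

/-- Left translation fixing the point `27`. -/
def trv (v p : ℕ) : ℕ := bif Nat.beq p 27 then 27 else mulN v p

/-- The element fixing `27` attached to `u`. -/
def stab (s : ℕ → ℕ) (u p : ℕ) : ℕ := s (trv (invN (s u)) (s (trv u (s p))))

/-- All these elements lie in the point stabiliser. -/
def closed (K : KTab) (s : ℕ → ℕ) : Bool :=
  (List.range 26).all fun u =>
    let a := stab s (u + 1) 0
    (List.range 8).any fun x => (List.range 27).all fun p => Nat.beq (stab s (u + 1) p) (mulN a (K.act x p))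

/-- The packed values of a map. -/
def pack (s : ℕ → ℕ) : ℕ := (List.range 28).foldr (fun i acc => s i + 32 * acc) 0

/-- The first solution. -/
def sol₁ : ℕ := 7790323944102126303688212032197071407163

/-- The second solution. -/
def sol₂ : ℕ := 10602884550481485102435635719644944368731

/-- The values on this point and the orbits up to `n` are chosen. -/
def known (K : KTab) (n p : ℕ) : Bool := Nat.beq (K.orb p) 3 || Nat.ble (K.orb p) n

/-- The element attached to the central point `9`, as far as it is known. -/
def cl (K : KTab) (T t cb n : ℕ) : Bool :=
  let s := sig K T t cb
  let v := invN cb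
  let a := stab s 9 0
  (List.range 8).any fun x => (List.range 27).all fun p =>
    !(known K n p) || (let p₁ := trv 9 (s p)
      !(known K n p₁) || (let p₂ := trv v (s p₁)
        !(known K n p₂) || Nat.beq (s p₂) (mulN a (K.act x p))))

/-- The search below a partial choice. -/
def searchAt (K : KTab) (good : ℕ → Bool) (t cb : ℕ) : Bool :=
  (List.range 27).all fun q₀ => Nat.beq (K.orb q₀) 3 || (!(pre K q₀ t cb 0 && cl K q₀ t cb 0) ||
    (List.range 27).all fun q₁ => Nat.beq (K.orb q₁) 3 || (!(pre K (q₀ + 32 * q₁) t cb 1 && cl K (q₀ + 32 * q₁) t cb 1) ||
      (List.range 27).all fun q₂ => Nat.beq (K.orb q₂) 3 ||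
        (!(pre K (q₀ + 32 * q₁ + 1024 * q₂) t cb 2) ||
          !(closed K (sig K (q₀ + 32 * q₁ + 1024 * q₂) t cb)) ||
            good (pack (sig K (q₀ + 32 * q₁ + 1024 * q₂) t cb)))))

/-- The involutory automorphisms of the cyclic group. -/
def tausZ : List ℕ := [247132686368, 174185289824, 109559646368, 36612249824]

/-- The involutory automorphisms of the quaternion group. -/
def tausQ : List ℕ := [247132686368, 176334932000, 178480253024, 213814118496, 244987234400, 143016364128, 175256045696, 107414259872, 173110593728, 38761826528]

theorem tausZ_spec : ∀ g < 8, tabZ.valid (tabZ.tauT true g 0) = true → tabZ.tauT true g 0 ∈ tausZ := by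
  decide +kernel

theorem tausQ_spec : ∀ g < 8, ∀ h < 8, tabQ.valid (tabQ.tauT false g h) = true →
    tabQ.tauT false g h ∈ tausQ := by
  decide +kernel

set_option maxHeartbeats 0 in
theorem searchZ : ∀ t ∈ tausZ, ∀ cb ∈ [9, 18],
    searchAt tabZ (fun T => T == sol₁ || T == sol₂) t cb = true := by
  decide +kernel

set_option maxHeartbeats 0 in
theorem searchQ : ∀ t ∈ tausQ, ∀ cb ∈ [9, 18], searchAt tabQ (fun _ => false) t cb = true := by
  decide +kernel

end Cfsg.Agent.G2Two
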